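import Cfsg.Agent.U43.Extra
import Cfsg.Agent.LyMc.Gen
import Cfsg.Agent.LES.SatModel
import Cfsg.Agent.Spor.ModelU43
import Cfsg.Agent.Class.FieldTransport
import Cfsg.Agent.Class.U.Simple

/-! Groups of type `U₄(3)` are isomorphic to `U₄(3)`. -/

set_option autoImplicit false
set_option maxRecDepth 100000
set_option synthInstance.maxHeartbeats 400000
set_option synthInstance.maxSize 4000

namespace Cfsg.Agent.U43

open Subgroup Cfsg.Agent.Comp Cfsg.Agent.LES Cfsg.Agent.X32 Cfsg.Agent.X32.TG Cfsg.Agent.He5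

/-- the permutation model -/
noncomputable abbrev M := gen Spor.ModelU43.ns Spor.ModelU43.G_ss0

def vs : List (List ℕ) := [[0, 0, 0, 0], [3, 0, 0, 3, 1, 3, 1, 2, 2, 1, 1, 3, 3, 0, 2],
  [3, 3, 1, 2, 0, 3, 1, 3, 1, 2, 0, 3, 1, 2, 0, 0], [2, 0, 3, 1, 3, 0, 2, 1, 1, 2, 1, 3, 0, 2, 2, 1],
  [3, 3, 1, 1, 2, 1, 1, 3, 3, 0, 2, 2, 0, 0, 0, 2, 1], [0, 3, 0, 2, 0, 2, 1, 2, 1, 3, 0, 0, 2, 2, 0],
  [2, 0, 0, 2, 2, 0, 0, 2, 2, 1, 2, 0, 2], [1, 2, 1, 3, 0, 2, 0, 3, 3, 0, 3, 1, 2, 0, 2, 0],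
  [1, 3, 1, 1, 3, 1, 3, 3, 1, 1, 2, 0, 3, 3, 0, 0], [2, 1, 1, 3, 3, 1, 2, 1, 1, 2, 0, 2, 1, 3, 1]]

open Spor.ModelU43 in
theorem linkM : BN.Link PG (modT ns G_ss0 vs) := by
  refine link_of_bound bG (sat_modT_of_check ctx (by decide +kernel) (by decide +kernel)
    (by decide +kernel)) ?_ G_card
  have : gen ns G_ss0 ≤ (BN.gen (modT ns G_ss0 vs)).map (gen ns G_ss0).subtype := gen_le_iff.2 (by
    have key : ∀ u W, eqW 128 7 ns (BN.subst (vs.map (subW G_ss0)) W) u = true →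
        wp ns u ∈ (BN.gen (modT ns G_ss0 vs)).map (gen ns G_ss0).subtype := fun u W a =>
      ⟨_, BN.ev_mem_gen _ W, (coe_ev_modT _ _ _ _).trans (wp_eq_of_eqW ctx a)⟩
    exact List.forall_mem_cons.2 ⟨key _ [6, 7, 5, 2, 6, 1] (by decide +kernel),
      List.forall_mem_cons.2 ⟨key _ [7, 6, 8, 9, 1, 7, 9, 7, 8, 9, 7] (by decide +kernel),
        fun _ h => absurd h List.not_mem_nil⟩⟩)
  exact eq_top_iff.2 fun g _ => (mem_map_iff_mem (subtype_injective _)).1 (this g.2)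

theorem simpleM : IsSimpleGroup M :=
  have : Class.U.UF Class.GF9 3 := Class.U.UF.of_card Class.card_GF9
  have := Class.U.isSimpleGroup_PSU (n := 4) (F := Class.GF9) (q := 3) (by norm_num) (by norm_num)
  Spor.ModelU43.equiv.symm.isSimpleGroup

variable {G : Type*} [Group G] [Finite G] {φ : K →* G} {n : G}

/-- the action of the generators -/
noncomputable def act (i : ℕ) (k : K) : K :=
  Bool.rec (motive := fun _ => K) (th tabU [e 2, e 1, e 32, e 197, e 4, e 5] k)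
    (tup lG i * k * (tup lG i)⁻¹) (Nat.blt i 9)

omit [Finite G] in
theorem Fr.five (h : Fr φ n) (m : ℕ) (l : List K) (Ls W : List ℕ) (hW : ∀ l ∈ W, l ∈ Ls)
    (c : (∀ i ∈ Ls, ∀ k, Mem m k → Mem m (act i k) ∧ (Nat.blt i 9 = true ∨
      i = 9 ∧ th tabU [e 1, e 2, e 4, e 5, e 32, e 197] k = k)) ∧ Mem m (e 1 : K) ∧
      ((∀ k ∈ l, Mem m k) ∧ ∀ c : K, (∀ k ∈ l, Commute c k) → Mem m c) ∧
      (∀ k, Mem m k → Setup.wk act (BN.powW W 5) k = k) ∧
      ∀ k, Mem m k → Setup.wk act W k = k → k = 1) : BN.ev (xt φ lG [n]) (BN.powW W 5) = 1 := by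
  refine h.set.walk_fpf (S := Mem m) (fun i hi k hk => ⟨?_, (c.1 i hi k hk).1⟩) c.2.1
    (fun x a => c.2.2.1.2 x fun k b => a k (c.2.2.1.1 k b)) W 5 hW c.2.2.2.1 c.2.2.2.2
  rcases (c.1 i hi k hk).2 with a | ⟨rfl, a⟩
  · rw [xt_low (l := lG) ((blt_iff _ _).1 a), act, a]; simp
  · exact h.cj.th a

omit [Finite G] in
theorem Fr.sat0 (h : Fr φ n) : BN.Sat P0 (xt φ lG [n]) :=
  have en : xt φ lG [n] 9 = n := rfl
  sat_xt [[9, 9], 9 :: ([5] ++ 9 :: [3]), 9 :: ([3] ++ 9 :: [5]), 9 :: ([1] ++ 9 :: [0]),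
    9 :: ([4] ++ 9 :: [6]), 9 :: ([6] ++ 9 :: [4]), 9 :: ([0] ++ 9 :: [1]), BN.powW (9 :: [2]) 3,
    BN.powW [9, 7] 5, BN.powW [2, 7, 9, 7, 9] 5, BN.powW [9, 8] 5, BN.powW [2, 8, 9, 8, 9] 5]
    (le_refl 10) (BD.of (by decide +kernel)) ⟨rel_sq en h.n2,
    rel_cj en h.n2 (h.cj 4) _ _ (BD.of (by decide +kernel)),
    rel_cj en h.n2 (h.cj 2) _ _ (BD.of (by decide +kernel)),
    rel_cj en h.n2 (h.cj 1) _ _ (BD.of (by decide +kernel)),
    rel_cj en h.n2 (h.cj 3) _ _ (BD.of (by decide +kernel)),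
    rel_cj en h.n2 (h.cj 5) _ _ (BD.of (by decide +kernel)),
    rel_cj en h.n2 (h.cj 0) _ _ (BD.of (by decide +kernel)),
    rel_pow en h.n3 _ (BD.of (by decide +kernel)),
    h.five (nat_lit 0x4095700040957) (es [2, 4, 32]) [2, 7, 9] _ (by decide)
      (BD.of (by decide +kernel)),
    h.five (nat_lit 0x4095700040957) (es [2, 4, 32]) [2, 7, 9] _ (by decide)
      (BD.of (by decide +kernel)),
    h.five (nat_lit 0x81267000000000000000000000000000000000000000000081267) (es [2, 5, 197])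
      [2, 8, 9] _ (by decide) (BD.of (by decide +kernel)),
    h.five (nat_lit 0x81267000000000000000000000000000000000000000000081267) (es [2, 5, 197])
      [2, 8, 9] _ (by decide) (BD.of (by decide +kernel)), trivial⟩

theorem cj_of {P : BN.Pres} {x : ℕ → G} (hx : BN.Sat P x) {R : List ℕ} (h : BN.Conseq P R)
    (U V W : List ℕ) (e : R = U ++ (V ++ (BN.invW P.I U ++ BN.invW P.I W))) :
    BN.ev x U * BN.ev x V * (BN.ev x U)⁻¹ = BN.ev x W := by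
  have := conseq_up h hx
  rw [e, BN.ev_append, BN.ev_append, BN.ev_append, BN.ev_invW hx.inv, BN.ev_invW hx.inv] at this
  rwa [← mul_assoc, ← mul_assoc, mul_inv_eq_one] at this

theorem Fr.sat (h : Fr φ n) : BN.Sat PG (xt φ lG [n]) := by
  have s := h.sat0
  have lo : ∀ W k, Low lG.length W ∧ BN.ev (tup lG) W = k → BN.ev (xt φ lG [n]) W = φ k :=
    fun W k c => by rw [ev_xt c.1, c.2]
  have ec := lo [2, 7, 6] (e 384) (BD.of (by decide +kernel))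
  have ed := lo [8, 5] (e 64) (BD.of (by decide +kernel))
  have ei : BN.ev (xt φ lG [n]) [9, 6, 7, 9, 6] = (BN.ev (xt φ lG [n]) [6, 9, 7, 6, 9])⁻¹ :=
    BN.ev_invW s.inv [6, 9, 7, 6, 9]
  have a1 := cj_of s k1 [6, 9, 7, 6, 9] [2, 7, 6] [2, 7, 6] (by decide +kernel)
  have a2 := cj_of s k2 [6, 9] [2, 7, 6] [6, 9, 7, 6, 9] (by decide +kernel)
  have a3 := cj_of s k3 [6, 9] [6, 9, 7, 6, 9] [6, 7, 2] (by decide +kernel)
  have a4 := cj_of s k4 [6, 9, 7, 6, 9] [0] [5] (by decide +kernel)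
  have a5 := cj_of s k5 [9, 6, 7, 9, 6] [0] [0, 5] (by decide +kernel)
  rw [ec] at a1 a2
  rw [lo [6, 7, 2] (e 384)⁻¹ (BD.of (by decide +kernel)), map_inv] at a3
  rw [lo [0] (e 1) (BD.of (by decide +kernel))] at a4 a5
  rw [lo [5] (e 32) (BD.of (by decide +kernel))] at a4
  rw [lo [0, 5] (e 33) (BD.of (by decide +kernel)), ei, inv_inv] at a5
  have b := extra h.set a1 a2 a3 a4 a5
  refine s.add fun W hW => ?_
  obtain rfl : W = [8, 5] ++ ([6, 9, 7, 6, 9] ++ ([8, 5] ++ ([9, 6, 7, 9, 6] ++ ([5, 8] ++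
    ([6, 9, 7, 6, 9] ++ ([5, 8] ++ [9, 6, 7, 9, 6])))))) := List.mem_singleton.1 hW
  simp only [BN.ev_append, ed, ei, lo [5, 8] (e 64)⁻¹ (BD.of (by decide +kernel)), map_inv]
  exact Eq.trans (by group) (mul_inv_eq_one.2 b.eq)

theorem Fr.main (h : Fr φ n) :
    Nonempty (G ≃* M) ∧ ∀ s : G, orderOf s = 2 → ∃ m, m * φ (e 1) * m⁻¹ = s := by
  have := simpleM
  have lo : ∀ W k, Low lG.length W ∧ BN.ev (tup lG) W = k → BN.ev (xt φ lG [n]) W = φ k :=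
    fun W k c => by rw [ev_xt c.1, c.2]
  obtain ⟨f, hf, d⟩ := link_inj linkM h.sat (W := [0])
    (by rw [lo _ (e 1) (BD.of (by decide +kernel))]; exact h.set.ne_one h.set.z1)
  have kM : ∀ k, φ k ∈ f.range := range_le_of_gen topG fun k hk =>
    xt_low (ex := [n]) hk ▸ ⟨_, (d [k]).trans (mul_one _)⟩
  have nM : n ∈ f.range := ⟨_, (d [9]).trans (mul_one _)⟩
  have z2 := orderOf_two h.set.zz (h.set.ne_one h.set.z1)
  have hC : ∀ g, Commute g (φ (e 1)) → g ∈ f.range := fun g hg => by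
    obtain ⟨k, rfl⟩ := h.set.cent g hg; exact kM k
  have hF : ∀ s, Commute s (φ (e 1)) → orderOf s = 2 → ∃ m ∈ f.range, m * φ (e 1) * m⁻¹ = s := by
    have tr : ∀ {a b : G}, (∃ m ∈ f.range, m * φ (e 1) * m⁻¹ = a) → ∀ g ∈ f.range, g * a * g⁻¹ = b →
        ∃ m ∈ f.range, m * φ (e 1) * m⁻¹ = b := fun ⟨m, a, b⟩ g c d =>
      ⟨g * m, mul_mem c a, by rw [← d, ← b]; group⟩
    have c0 : ∃ m ∈ f.range, m * φ (e 1) * m⁻¹ = φ (e 1) := ⟨1, one_mem _, by simp⟩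
    have c1 := tr c0 n nM (h.cj 0)
    obtain ⟨a, c2⟩ : ∃ a : K, a * e 2 * a⁻¹ = e 4 := BD.of (by decide +kernel)
    obtain ⟨b, c3⟩ : ∃ a : K, a * e 2 * a⁻¹ = e 5 := BD.of (by decide +kernel)
    have c4 := tr (tr c1 _ (kM a) (cjk c2)) n nM (h.cj 2)
    have c5 := tr (tr c1 _ (kM b) (cjk c3)) n nM (h.cj 3)
    intro s a b
    obtain ⟨k, rfl⟩ := h.set.cent s a
    rcases (BD.of (by decide +kernel) : ∀ k : K, k * k = 1 → k = 1 ∨ k = e 1 ∨
      ∃ c, c * e 2 * c⁻¹ = k ∨ c * e 32 * c⁻¹ = k ∨ c * e 197 * c⁻¹ = k) k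
      (h.set.inj (by rw [map_mul, ← pow_two, ← b, pow_orderOf_eq_one, map_one])) with
      rfl | rfl | ⟨c, a | a | a⟩
    · simp at b
    exacts [c0, tr c1 _ (kM c) (cjk a), tr c4 _ (kM c) (cjk a), tr c5 _ (kM c) (cjk a)]
  have top := LyMc.eq_top_of_one_class z2 hC hF (h.set.comm (e 2))
    (orderOf_two (Setup.sq (BD.of (by decide +kernel))) (h.set.ne_one (BD.of (by decide +kernel))))
    (h.set.inj.ne (BD.of (by decide +kernel))) fun hs => by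
      have := Group.isSolvable_of_isSolvable_injective (MonoidHom.ofInjective hf).injective
      have := IsSimpleGroup.comm_iff_isSolvable.2 this
      have := congrArg f (this (BN.ev (modT _ _ vs) [1]) (BN.ev (modT _ _ vs) [2]))
      rw [map_mul, map_mul, d, d, lo _ (e 2) (BD.of (by decide +kernel)),
        lo _ (e 3) (BD.of (by decide +kernel)), ← map_mul, ← map_mul, h.set.eq_iff] at this
      exact absurd this (BD.of (by decide +kernel))
  refine ⟨⟨(MulEquiv.ofBijective f ⟨hf, MonoidHom.range_eq_top.1 top⟩).symm⟩, fun s hs => ?_⟩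
  obtain ⟨m, -, a⟩ := LyMc.conj_of_cent z2 hC hF (top ▸ mem_top s) hs
  exact ⟨m, a⟩

end Cfsg.Agent.U43
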