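import Cfsg.Agent.U43.Frame

/-! Groups of type `U₄(3)`: the three-local relation. -/

set_option autoImplicit false
set_option maxRecDepth 100000
set_option synthInstance.maxHeartbeats 400000
set_option synthInstance.maxSize 4000

namespace Cfsg.Agent.U43

open Subgroup Cfsg.Agent.Comp Cfsg.Agent.LES Cfsg.Agent.X32 Cfsg.Agent.X32.TG Cfsg.Agent.He5

variable {G : Type*} [Group G] [Finite G] {φ : K →* G}

noncomputable def mW : ℕ := nat_lit 0x1000000010000000000000001000000000000000000000001000000010000000000000001000000000000000000000000000000000000000000000000000000000000000000000001000000010000000000000001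

noncomputable def W0 : Subgroup K := sub mW (BD.of (by decide +kernel))

instance memW0 (k : K) {b : Bool} [BD (Mem mW k) b] : BD (k ∈ W0) b := ⟨BD.h (p := Mem _ k)⟩

theorem W0_card : Nat.card W0 = 3 ^ 2 :=
  (card_sub (· ∈ W0) fun _ => Iff.rfl).trans (by decide +kernel)

/-- involutions other than `z` centralising the Sylow 3-subgroup of the centraliser -/
def J (φ : K →* G) (u : G) : Prop :=
  u * u = 1 ∧ u ≠ 1 ∧ u ≠ φ (e 1) ∧ Commute u (φ (e 384)) ∧ Commute u (φ (e 64))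

theorem exists_J (h : Setup φ (e 1)) {E f : G} (k1 : E * φ (e 384) * E⁻¹ = φ (e 384))
    (k2 : f * φ (e 384) * f⁻¹ = E) (k3 : f * E * f⁻¹ = (φ (e 384))⁻¹)
    (k4 : E * φ (e 1) * E⁻¹ = φ (e 32)) : ∃ u, J φ u := by
  by_contra hn
  have := Fact.mk Nat.prime_three
  have key : ∀ g, Commute (g * φ (e 1) * g⁻¹) (φ (e 384)) → Commute (g * φ (e 1) * g⁻¹) (φ (e 64)) →
      Commute g (φ (e 1)) := fun g a b => comm_of_conj (by
    by_contra c
    exact hn ⟨_, conj_sq h.zz, by simpa using h.ne_one h.z1, c, a, b⟩)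
  have cW : Nat.card (W0.map φ) = 3 ^ 2 := by rw [h.card_map, W0_card]
  have le : normalizer (W0.map φ : Set G) ≤ centralizer {φ (e 1)} := fun g hg => by
    have a : ∀ k ∈ W0, Commute (g * φ (e 1) * g⁻¹) (φ k) := fun k hk => by
      obtain ⟨k', -, b⟩ := (mem_normalizer_iff''.1 hg _).1 ⟨k, hk, rfl⟩
      simpa [b, mul_assoc] using cmap (φ := φ) (h.zc k').symm g
    exact mem_cent.2 (key g (a _ (BD.of (by decide +kernel))) (a _ (BD.of (by decide +kernel))))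
  have n27 : ¬ 3 ∣ (W0.map φ).index := fun a => by
    have := (Sylow.prime_pow_dvd_card_normalizer (n := 2) (by
      rw [← (W0.map φ).card_mul_index, cW, pow_succ]; exact mul_dvd_mul_left _ a) cW).trans
      (card_dvd_of_le le)
    rw [h.card_cent, TG.card] at this
    exact absurd this (by decide)
  have c3 : φ (e 384) ^ 3 = 1 := by
    rw [← map_pow, (BD.of (by decide +kernel) : (e 384 : K) ^ 3 = 1), map_one]
  have p3 : ∀ x : G, x ^ 3 = 1 → IsPGroup 3 (zpowers x) := by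
    rintro x a ⟨_, n, rfl⟩
    refine ⟨1, Subtype.ext ?_⟩
    change (x ^ n) ^ 3 ^ 1 = 1
    rw [pow_one, ← zpow_natCast, ← zpow_mul, mul_comm, zpow_mul, zpow_natCast, a, one_zpow]
  obtain ⟨P, hP⟩ := ((p3 E (by rw [← k2, conj_pow, c3]; simp)).to_sup_of_normal_right' (p3 _ c3)
    (zpowers_le.2 (mem_normalizer_fintype (by
      rintro _ ⟨n, rfl⟩
      exact ⟨n, by simp only [← conj_zpow, k1]⟩)))).exists_le_sylow
  obtain ⟨g, hg⟩ := MulAction.exists_smul_eq G P ((IsPGroup.of_card cW).toSylow n27)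
  have m : ∀ x ∈ P, ∃ k ∈ W0, φ k = g * x * g⁻¹ := fun x hx => by
    have : MulAut.conj g • x ∈ ((g • P : Sylow 3 G) : Subgroup G) := smul_mem_pointwise_smul _ _ _ hx
    rw [hg] at this
    exact this
  obtain ⟨a, a1, a2⟩ := m _ (hP (mem_sup_right (mem_zpowers _)))
  obtain ⟨b, b1, b2⟩ := m _ (hP (mem_sup_left (mem_zpowers _)))
  have f1 : g * f * g⁻¹ * φ a * (g * f * g⁻¹)⁻¹ = φ b := by rw [a2, b2, ← k2]; group
  have f2 : g * f * g⁻¹ * φ b * (g * f * g⁻¹)⁻¹ = φ a⁻¹ := by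
    rw [map_inv, a2, b2, conj_inv (a := φ _), ← k3]; group
  have a3 : a ≠ 1 := fun c => by
    rw [c, map_one, eq_comm, conj_eq_one_iff] at a2
    exact h.ne_one (BD.of (by decide +kernel)) a2
  have b3 : ∀ i : ℕ, b ≠ a ^ i := fun i c => by
    rw [c, map_pow, a2, conj_pow, mul_left_inj, mul_right_inj] at b2
    rw [← b2, conj_of_comm ((h.comm _).pow_left i), h.eq_iff] at k4
    exact absurd k4 (BD.of (by decide +kernel))
  generalize g * f * g⁻¹ = y at f1 f2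
  have c : ∀ a ∈ W0, ∀ b ∈ W0, a = 1 ∨ b = a ^ 0 ∨ b = a ^ 1 ∨ b = a ^ 2 ∨ ∀ k ∈ [e 384, e 64],
      ∃ W ∈ [[0], [1], [0, 0], [0, 1], [1, 1], [0, 0, 1], [0, 1, 1], [0, 0, 1, 1]],
        BN.ev (tup [a, b]) W = k := BD.of (by decide +kernel)
  have c' := (((c a a1 b b1).resolve_left a3).resolve_left (b3 0)).resolve_left (b3 1)
  have d : ∀ k ∈ [e 384, e 64], Commute (y * φ (e 1) * y⁻¹) (φ k) := fun k hk => by
    obtain ⟨W, -, rfl⟩ := c'.resolve_left (b3 2) k hk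
    refine mem_cent.1 (BN.ev_mem (H := (centralizer {y * φ (e 1) * y⁻¹}).comap φ) (fun i => ?_) W)
      |>.symm
    match i with
    | 0 =>
      have := inv_mem (mem_cent.2 (f2 ▸ cmap (φ := φ) (h.zc b) y))
      rwa [← map_inv, inv_inv] at this
    | 1 => exact mem_cent.2 (f1 ▸ cmap (φ := φ) (h.zc a) y)
    | i + 2 => exact one_mem _
  obtain ⟨k, rfl⟩ := h.cent y (key y (d _ (by simp)) (d _ (by simp)))
  rw [← map_inv, ← map_mul, ← map_mul, h.eq_iff] at f1 f2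
  subst f1
  exact a3 ((BD.of (by decide +kernel) : ∀ a ∈ W0, ∀ k, k * a * k⁻¹ ∈ W0 →
    k * (k * a * k⁻¹) * k⁻¹ = a⁻¹ → a = 1) a a1 k b1 f2)

theorem exists_J' (h : Setup φ (e 1)) {u : G} (hu : J φ u) : ∃ v, J φ v ∧ Commute v (φ (e 32)) := by
  have r2 : φ (e 32) * φ (e 32) = 1 := Setup.sq (BD.of (by decide +kernel))
  have rc : Commute (φ (e 32)) (φ (e 384)) := h.comm_iff.2 (BD.of (by decide +kernel))
  have rd : φ (e 32) * φ (e 64) * (φ (e 32))⁻¹ = (φ (e 64))⁻¹ := by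
    rw [← map_inv φ (e 64)]; exact cjk (BD.of (by decide +kernel))
  have dd : (φ (e 64))⁻¹ ≠ φ (e 64) := by
    rw [← map_inv]; exact h.inj.ne (BD.of (by decide +kernel))
  have nz : ¬ Commute u (φ (e 1)) := fun a => by
    obtain ⟨k, rfl⟩ := h.cent u a
    rcases (BD.of (by decide +kernel) : ∀ k : K, k * k = 1 → Commute k (e 384) → Commute k (e 64) →
      k = 1 ∨ k = e 1) k (h.inj (by simpa using hu.1)) (h.comm_iff.1 hu.2.2.2.1)
      (h.comm_iff.1 hu.2.2.2.2) with rfl | rfl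
    exacts [hu.2.1 (map_one φ), hu.2.2.1 rfl]
  have w1 : u * φ (e 32) * φ (e 64) * (u * φ (e 32))⁻¹ = (φ (e 64))⁻¹ := by
    rw [← conj_of_comm hu.2.2.2.2.inv_right, ← rd]; group
  have w2 : ∀ m, Commute ((u * φ (e 32)) ^ (2 * m)) (φ (e 64)) := fun m => by
    rw [pow_mul]
    refine (comm_of_conj ?_).pow_left m
    conv_rhs => rw [← inv_inv (φ (e 64)), ← w1, conj_inv, ← w1]
    rw [pow_two]; group
  have w3 : ∀ m, (u * φ (e 32)) ^ (2 * m + 1) * φ (e 64) * ((u * φ (e 32)) ^ (2 * m + 1))⁻¹ =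
      (φ (e 64))⁻¹ := fun m => by
    rw [← conj_of_comm (w2 m).inv_right, ← w1, pow_succ]; group
  obtain ⟨m, a⟩ | ⟨m, a1, a2⟩ := odd_or_even (u * φ (e 32))
  · exact absurd (by simpa [a] using (w3 m).symm) dd
  obtain ⟨b1, b2⟩ := even_comm hu.1 r2 a2
  have b3 := (hu.2.2.2.1.mul_left rc).pow_left m
  obtain ⟨j, rfl | rfl⟩ := Nat.even_or_odd' m
  · exact ⟨_, ⟨a2, a1, fun c => nz (c ▸ b1.symm), b3, w2 j⟩, b2⟩
  have w4 := w3 j
  generalize (u * φ (e 32)) ^ (2 * j + 1) = i at *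
  by_cases c1 : i * φ (e 32) = 1
  · rw [mul_eq_one_iff_eq_inv, inv_self r2] at c1
    exact ⟨u, hu, c1 ▸ b1.symm⟩
  by_cases c2 : i * φ (e 32) = φ (e 1)
  · rw [← eq_mul_inv_iff_mul_eq, ← map_inv, ← map_mul] at c2
    have s : ∀ a b : K, e 192 * a * (e 192)⁻¹ = b → Commute u (φ a) →
        Commute (φ (e 192) * u * (φ (e 192))⁻¹) (φ b) := fun a b c d =>
      cjk (φ := φ) c ▸ d.map (MulAut.conj (φ (e 192)))
    refine ⟨φ (e 192) * u * (φ (e 192))⁻¹, ⟨conj_sq hu.1, by simpa using hu.2.1, fun c => hu.2.2.1 ?_,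
      s (e 384)⁻¹ _ (BD.of (by decide +kernel)) (map_inv φ _ ▸ hu.2.2.2.1.inv_right),
      s _ _ (BD.of (by decide +kernel)) hu.2.2.2.2⟩, s _ _ (BD.of (by decide +kernel)) (c2 ▸ b1.symm)⟩
    rwa [← conj_of_comm (h.comm (e 192)), mul_left_inj, mul_right_inj] at c
  refine ⟨i * φ (e 32), ⟨by rw [mul_assoc, ← mul_assoc (φ _), ← b2.eq, mul_assoc, r2, mul_one, a2],
    c1, c2, b3.mul_left rc, comm_of_conj ?_⟩, b2.mul_left (Commute.refl _)⟩
  conv_rhs => rw [← inv_inv (φ (e 64)), ← w4, conj_inv, ← rd]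
  group

theorem extra (h : Setup φ (e 1)) {E f : G} (k1 : E * φ (e 384) * E⁻¹ = φ (e 384))
    (k2 : f * φ (e 384) * f⁻¹ = E) (k3 : f * E * f⁻¹ = (φ (e 384))⁻¹)
    (k4 : E * φ (e 1) * E⁻¹ = φ (e 32)) (k5 : E⁻¹ * φ (e 1) * E = φ (e 33)) :
    Commute (φ (e 64)) (E * φ (e 64) * E⁻¹) := by
  obtain ⟨u, hu⟩ := exists_J h k1 k2 k3 k4
  obtain ⟨u, ⟨u2, u1, uz, uc, ud⟩, ur⟩ := exists_J' h hu
  have cj : ∀ {a b : G}, Commute a b → Commute (E⁻¹ * a * E) (E⁻¹ * b * E) := fun a => by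
    simpa using a.map (MulAut.conj E⁻¹)
  have sw : ∀ {a b : G}, E * a * E⁻¹ = b → E⁻¹ * b * E = a := fun e => by rw [← e]; group
  obtain ⟨k, hk⟩ := h.cent _ (sw k4 ▸ cj ur)
  have d1 : Commute (E⁻¹ * φ (e 64) * E) (φ k) := hk ▸ cj ud.symm
  have d2 : Commute (E⁻¹ * φ (e 64) * E) (φ (e 33)) := k5 ▸ cj (h.comm _)
  have d3 : ¬ Commute (E⁻¹ * φ (e 64) * E) (φ (e 1)) := fun a => by
    have := a.map (MulAut.conj E)
    simp only [MulAut.conj_apply, k4] at this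
    exact absurd (h.comm_iff.1 (by simpa [mul_assoc] using this) : Commute (e 64) (e 32))
      (BD.of (by decide +kernel))
  have d4 := d2.mul_right d1
  rw [← map_mul] at d4
  have fin : Commute (E⁻¹ * φ (e 64) * E) (φ (e 64)) := by
    rcases (BD.of (by decide +kernel) : ∀ k : K, k * k = 1 → Commute k (e 384) → k = 1 ∨ k = e 33 ∨
      e 33 * k = e 64 ∨ (e 33 * k)⁻¹ = e 64 ∨ (e 33 * k) ^ 3 = e 1 ∨ k = e 1) k
      (h.inj (by simpa [hk] using conj_sq (g := E⁻¹) u2)) (h.comm_iff.1 (hk ▸ sw k1 ▸ cj uc))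
      with rfl | rfl | a | a | a | rfl
    · exact absurd (by simpa using (conj_eq_one_iff (a := E⁻¹) (b := u)).1 (by simpa using hk.symm)) u1
    · rw [← k5, mul_left_inj, mul_right_inj] at hk
      exact absurd hk.symm uz
    · exact a ▸ d4
    · have := d4.inv_right
      rwa [← map_inv, a] at this
    · exact absurd (by rw [← a, map_pow]; exact d4.pow_right 3) d3
    · exact absurd d1 d3
  simpa [mul_assoc] using fin.map (MulAut.conj E)

end Cfsg.Agent.U43
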